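import Groth.Prelude.Def_SekSuwa2
import Mathlib

/-! Composition with `alphaN` is injective on points of flat schemes. -/

set_option autoImplicit false
set_option backward.isDefEq.respectTransparency false

universe u

open CategoryTheory CategoryTheory.Limits AlgebraicGeometry

noncomputable section

namespace SekSuwaMonoLib

variable {R : Type u} [CommRing R]

/-- constants -/
def cst {Y : Scheme.{u}} (q : Y ⟶ Spec (CommRingCat.of R)) : R →+* Γ(Y, ⊤) :=
  q.appTop.hom.comp (Scheme.ΓSpecIso (CommRingCat.of R)).inv.hom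

theorem cancel_cst {Y : Scheme.{u}} (q : Y ⟶ Spec (CommRingCat.of R)) [Flat q] {r : R} (hr : r ∈ nonZeroDivisors R)
    {a b : Γ(Y, ⊤)} (h : cst q r * a = cst q r * b) : a = b := by
  refine TopCat.Sheaf.eq_of_locally_eq' Y.sheaf (fun U : Y.affineOpens => (U : Y.Opens)) ⊤
    (fun U => homOfLE le_top) (fun x _ => ?_) a b fun U => ?_
  · obtain ⟨U, hU, hxU, -⟩ := exists_isAffineOpen_mem_and_subset (x := x) (U := ⊤) trivial
    exact TopologicalSpace.Opens.mem_iSup.mpr ⟨⟨U, hU⟩, hxU⟩
  let ρ := q.appLE ⊤ U le_top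
  have hflat : (ρ.hom.comp (Scheme.ΓSpecIso (CommRingCat.of R)).inv.hom).Flat :=
    RingHom.Flat.comp (RingHom.Flat.of_bijective
      (ConcreteCategory.bijective_of_isIso (Scheme.ΓSpecIso (CommRingCat.of R)).inv))
      (q.flat_appLE (isAffineOpen_top _) U.2 le_top)
  letI : Algebra R Γ(Y, U) := (ρ.hom.comp (Scheme.ΓSpecIso (CommRingCat.of R)).inv.hom).toAlgebra
  haveI : Module.Flat R Γ(Y, U) := hflat
  apply Module.Flat.isSMulRegular_of_nonZeroDivisors (M := Γ(Y, U)) hr
  change Y.presheaf.map _ (cst q r) * _ = Y.presheaf.map _ (cst q r) * _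
  exact (map_mul _ _ _).symm.trans ((congrArg _ h).trans (map_mul _ _ _))

theorem algHom_ext_of_u {lam : R} {N : ℕ} {hD : SekSuwa.DivCond lam N} {B : Type*} [CommRing B]
    {f g : SekSuwa.AK R lam N hD →+* B}
    (hc : ∀ r, f (algebraMap R _ r) = g (algebraMap R _ r))
    (hcancel : ∀ a b : B, f (algebraMap R _ lam) * a = f (algebraMap R _ lam) * b → a = b)
    (hu : f (1 + lam • SekSuwa.AK.t) = g (1 + lam • SekSuwa.AK.t)) : f = g := by
  have ht : f SekSuwa.AK.t = g SekSuwa.AK.t := by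
    rw [Algebra.smul_def, map_add, map_add, map_one, map_one, add_right_inj, map_mul, map_mul, ← hc] at hu
    exact hcancel _ _ hu
  letI : Algebra R B := (f.comp (algebraMap R _)).toAlgebra
  let f' : SekSuwa.AK R lam N hD →ₐ[R] B := { f with commutes' := fun _ => rfl }
  let g' : SekSuwa.AK R lam N hD →ₐ[R] B := { g with commutes' := fun r => (hc r).symm }
  have hinv : f SekSuwa.AK.inv = g SekSuwa.AK.inv := by
    have e1 : (1 + lam • SekSuwa.AK.t : SekSuwa.AK R lam N hD) * SekSuwa.AK.inv = 1 := by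
      have := congrArg (SekSuwa.AK.mkHom R lam N hD) (SekSuwa.A.u_mul_inv (R := R) (lam := lam))
      rw [map_mul, map_one, SekSuwa.A.u, map_add, map_one, map_smul] at this
      exact this
    have hf := congrArg f e1
    have hg := congrArg g e1
    rw [map_mul, map_one] at hf hg
    rw [← hu] at hg
    exact left_inv_eq_right_inv ((mul_comm _ _).trans hf) hg
  have : f' = g' := SekSuwa.AK.algHom_ext ht hinv
  exact RingHom.ext fun x => congrArg (fun φ => φ x) this

theorem appTop_specMap {A B : CommRingCat.{u}} (φ : A ⟶ B) {Y : Scheme.{u}} (l : Y ⟶ Spec B) (a : A) :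
    (l ≫ Spec.map φ).appTop ((Scheme.ΓSpecIso A).inv a) = l.appTop ((Scheme.ΓSpecIso B).inv (φ a)) := by
  rw [Scheme.Hom.comp_appTop, CommRingCat.comp_apply]
  congr 1
  exact congr($(Scheme.ΓSpecIso_inv_naturality φ) a).symm

theorem eq_of_comp_aux {lam : R} {p : ℕ} (h : SekSuwa.DivCond lam p)
    {Y : Scheme.{u}} (q : Y ⟶ Spec (CommRingCat.of R)) [Flat q]
    (l l' : Y ⟶ Spec (CommRingCat.of (SekSuwa.AK R lam p h)))
    (hw : l ≫ Spec.map (CommRingCat.ofHom (algebraMap R (SekSuwa.AK R lam p h))) = q)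
    (hw' : l' ≫ Spec.map (CommRingCat.ofHom (algebraMap R (SekSuwa.AK R lam p h))) = q)
    (hl : l ≫ Spec.map (CommRingCat.ofHom (SekSuwa.alphaNHom R lam p h : MonoidAlgebra R (Multiplicative (ZMod p)) →+* SekSuwa.AK R lam p h)) =
      l' ≫ Spec.map (CommRingCat.ofHom (SekSuwa.alphaNHom R lam p h : MonoidAlgebra R (Multiplicative (ZMod p)) →+* SekSuwa.AK R lam p h))) :
    l = l' := by
  let A : CommRingCat.{u} := CommRingCat.of (SekSuwa.AK R lam p h)
  let ψ : (Y ⟶ Spec A) → (SekSuwa.AK R lam p h →+* Γ(Y, ⊤)) := fun l =>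
    l.appTop.hom.comp (Scheme.ΓSpecIso A).inv.hom
  have hc : ∀ (l : Y ⟶ Spec A), l ≫ Spec.map (CommRingCat.ofHom (algebraMap R (SekSuwa.AK R lam p h))) = q →
      ∀ r, ψ l (algebraMap R _ r) = cst q r := by
    intro l hw r
    subst hw
    exact (appTop_specMap (CommRingCat.ofHom (algebraMap R (SekSuwa.AK R lam p h))) l r).symm
  have hψ : ψ l = ψ l' := by
    refine algHom_ext_of_u (fun r => (hc l hw r).trans (hc l' hw' r).symm)
      (fun a b e => cancel_cst q h.nzd (by rwa [hc l hw lam] at e)) ?_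
    rw [← SekSuwa.alphaNHom_single_one R lam p h]
    exact (appTop_specMap (CommRingCat.ofHom (SekSuwa.alphaNHom R lam p h : MonoidAlgebra R (Multiplicative (ZMod p)) →+* SekSuwa.AK R lam p h)) l _).symm.trans
      ((congrArg (fun φ : Y ⟶ _ => φ.appTop _) hl).trans
        (appTop_specMap (CommRingCat.ofHom (SekSuwa.alphaNHom R lam p h : MonoidAlgebra R (Multiplicative (ZMod p)) →+* SekSuwa.AK R lam p h)) l' _))
  apply ext_of_isAffine
  refine CommRingCat.hom_ext (RingHom.ext fun x => ?_)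
  obtain ⟨y, rfl⟩ := (ConcreteCategory.bijective_of_isIso (Scheme.ΓSpecIso A).inv).2 x
  exact congrArg (fun φ => φ y) hψ

theorem eq_of_comp {lam : R} {p : ℕ} (h : SekSuwa.DivCond lam p)
    (G : Over (Spec (CommRingCat.of R))) [Flat G.hom] (f g : G ⟶ SekSuwa.GK R lam p h)
    (hfg : f ≫ SekSuwa.alphaN R lam p h = g ≫ SekSuwa.alphaN R lam p h) : f = g :=
  Over.OverMorphism.ext (eq_of_comp_aux h G.hom f.left g.left (Over.w f) (Over.w g)
    (congrArg (fun φ => φ.left) hfg))

end SekSuwaMonoLib
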